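import Groth.Agent.EtBCFib.Hull
import Groth.Agent.EtTorLib.Exhaust
import Groth.Agent.EtTorLib.PushColim
import Groth.Agent.EtLC12.QcqsAcyclic
import Groth.Agent.S8560

/-!
# `L`-torsion sheaves and acyclic `L`-torsion hulls
-/

set_option autoImplicit false
set_option linter.style.haveILetI false

universe u

open CategoryTheory CategoryTheory.Limits AlgebraicGeometry Opposite

namespace Groth.Agent.EtLeray

set_option backward.isDefEq.respectTransparency false
set_option backward.isDefEq.respectTransparency.types false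

open EtTorLib

variable {T : Scheme.{u}} {L : Set ℕ}

/-- the exponents with prime factors in `L` -/
abbrev MSet (L : Set ℕ) : Set ℕ := {m | EtAcyc.PrimesIn L m}

theorem one_mem_MSet : 1 ∈ MSet L := ⟨Nat.one_pos, fun _ hp h => absurd (Nat.dvd_one.1 h) hp.ne_one⟩

theorem mul_mem_MSet : ∀ a ∈ MSet L, ∀ b ∈ MSet L, a * b ∈ MSet L := fun _ ha _ hb =>
  ⟨Nat.mul_pos ha.1 hb.1, fun p hp h => ((Nat.Prime.dvd_mul hp).1 h).elim (ha.2 p hp) (hb.2 p hp)⟩

theorem isLTorsion_of_nsmul {m : ℕ} (hm : EtAcyc.PrimesIn L m) {F : EtCoh.Ab T} (hF : m • 𝟙 F = 0) :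
    EtAcyc.IsLTorsion L F := fun U s x =>
  ⟨U, 𝟙 U, m, ⟨x, rfl⟩, hm, nsmul_app_eq_zero hF U _⟩

theorem isLTorsion_of_epi {G Q : EtCoh.Ab T} (p : G ⟶ Q) [Epi p] (hG : EtAcyc.IsLTorsion L G) :
    EtAcyc.IsLTorsion L Q := fun U s x => by
  obtain ⟨V, g, v, ⟨t, ht⟩, hv⟩ := (EtFound.mem_topology_iff _).1
    (((Sheaf.isLocallySurjective_iff_epi' AddCommGrpCat.{u + 1} p).2 inferInstance).imageSieve_mem (U := U) s) x
  obtain ⟨W, a, m, ⟨w, hw⟩, hm, hms⟩ := hG V t v
  refine ⟨W, a ≫ g, m, ⟨w, ?_⟩, hm, ?_⟩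
  · rw [← hv, ← hw]
    exact Scheme.Hom.comp_apply _ _ _
  · rw [op_comp, Functor.map_comp_apply, ← ht]
    refine (map_nsmul (Q.obj.map a.op).hom m _).symm.trans ?_
    refine (congrArg (Q.obj.map a.op) (map_nsmul (p.hom.app (op V)).hom m t).symm).trans ?_
    refine (NatTrans.naturality_apply p.hom a.op (m • t)).symm.trans ?_
    exact (congrArg (p.hom.app (op W)) ((map_nsmul (G.obj.map a.op).hom m t).trans hms)).trans (map_zero _)

theorem isLTorsion_push {S : Scheme.{u}} (f : T ⟶ S) [QuasiCompact f] [QuasiSeparated f] {F : EtCoh.Ab T}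
    (hF : EtAcyc.IsLTorsion L F) : EtAcyc.IsLTorsion L ((EtCoh.push f).obj F) :=
  isLTorsion_of_epi ((EtCoh.push f).rightDerivedZeroIsoSelf.hom.app F) (S8560.result f L F hF 0)

theorem isZero_colimit_obj {C J D : Type*} [Category C] [Category J] [Category D] [Preadditive C] (Φ : D ⥤ C)
    (K : J ⥤ D) [HasColimit K] [PreservesColimit K Φ] (h : ∀ j, IsZero (Φ.obj (K.obj j))) :
    IsZero (Φ.obj (colimit K)) := by
  rw [IsZero.iff_id_eq_zero]
  exact (isColimitOfPreserves Φ (colimit.isColimit K)).hom_ext fun j => (h j).eq_of_src _ _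

/-- An `L`-torsion sheaf on a qcqs scheme embeds in one without higher cohomology or higher direct images along
quasi-compact quasi-separated morphisms. -/
theorem exists_hull_LTors [CompactSpace T] [QuasiSeparatedSpace T] (F : EtCoh.Ab T) (hF : EtAcyc.IsLTorsion L F) :
    ∃ (G : EtCoh.Ab T) (j : F ⟶ G), Mono j ∧ EtAcyc.IsLTorsion L G ∧
      (∀ q : ℕ, Subsingleton (EtCoh.H T G (q + 1))) ∧
      ∀ {S : Scheme.{u}} (g : T ⟶ S) [QuasiCompact g] [QuasiSeparated g] (a : ℕ),
        IsZero ((EtCoh.Rpush g (a + 1)).obj G) := by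
  obtain ⟨⟨I, _, ι, _⟩⟩ := EnoughInjectives.presentation F
  haveI := isFiltered_tidx.{u} (one_mem_MSet (L := L)) mul_mem_MSet
  obtain ⟨hc⟩ := nonempty_isColimit_torsCocone F (one_mem_MSet (L := L)) mul_mem_MSet hF
  let D := torsDiagram I (MSet L)
  let α : torsDiagram F (MSet L) ⟶ D :=
    { app := fun i => kernel.map _ _ ι ι (by simp [Preadditive.nsmul_comp, Preadditive.comp_nsmul])
      naturality := fun i k a => by
        refine (cancel_mono (kernel.ι (k.n • 𝟙 I))).1 ?_
        simp [D, torsDiagram, kernel.map] }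
  let j : F ⟶ colimit D := hc.map (colimit.cocone D) α
  have hj : j ≫ colimit.desc D (torsCocone I (MSet L)) = ι := hc.hom_ext fun i => by
    rw [IsColimit.ι_map_assoc, colimit.cocone_ι, colimit.ι_desc]
    exact kernel.lift_ι _ _ _
  refine ⟨colimit D, j, mono_of_mono_fac hj, fun U s x => ?_, fun q => ?_, fun g _ _ a => ?_⟩
  · obtain ⟨W, g, hW, w, hw⟩ := exists_affine_nhd U x
    let Γ := sheafToPresheaf T.smallEtaleTopology AddCommGrpCat.{u + 1} ⋙
      (evaluation T.Etaleᵒᵖ AddCommGrpCat.{u + 1}).obj (op W)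
    haveI : PreservesColimitsOfShape (TIdx.{u} (MSet L)) Γ :=
      EtFound.preservesColimitsOfShape_sections_qcqs_ab W (haveI := hW; EtFound.isQcqsObj_of_isAffine W) _
    obtain ⟨i, t, ht⟩ := Types.jointly_surjective _ (isColimitOfPreserves (forget AddCommGrpCat.{u + 1})
      (isColimitOfPreserves Γ (colimit.isColimit D))) ((colimit D).obj.map g.op s)
    let φ := (colimit.ι D i).hom.app (op W)
    change φ.hom t = _ at ht
    refine ⟨W, g, i.n, ⟨w, hw⟩, i.mem, ?_⟩
    exact (congrArg (i.n • ·) ht.symm).trans ((map_nsmul φ.hom i.n t).symm.trans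
      ((congrArg φ.hom (nsmul_app_eq_zero (torsDiagram_nsmul I i) W t)).trans (map_zero _)))
  · haveI := EtLC12.QcqsAcyclic.preservesColimitsOfShape_HF T (q + 1) (TIdx.{u} (MSet L))
    refine AddCommGrpCat.subsingleton_of_isZero (isZero_colimit_obj (EtCoh.HF T (q + 1)) D fun i => ?_)
    haveI : Subsingleton ((EtCoh.HF T (q + 1)).obj (D.obj i)) := subsingleton_H_kernel_nsmul I i.mem.1 q
    exact AddCommGrpCat.isZero_of_subsingleton _
  · haveI := preservesColimitsOfShape_Rpush g (a + 1) (TIdx.{u} (MSet L))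
    refine isZero_colimit_obj (EtCoh.Rpush g (a + 1)) D fun i => ?_
    haveI := epi_nsmul I i.mem.1
    let Sq := ShortComplex.mk (kernel.ι (i.n • 𝟙 I)) (i.n • 𝟙 I) (kernel.condition _)
    have hS : Sq.ShortExact := { exact := ShortComplex.exact_of_f_is_kernel _ (kernelIsKernel _) }
    haveI : Injective Sq.X₂ := ‹Injective I›
    haveI : Injective Sq.X₃ := ‹Injective I›
    haveI : (EtCoh.push g).IsRightAdjoint := (EtCoh.pullPushAdj g).isRightAdjoint
    haveI := EtFound.pull_preservesFiniteLimits g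
    haveI : (EtCoh.pull g).PreservesMonomorphisms := preservesMonomorphisms_of_preservesLimitsOfShape _
    haveI : Injective ((EtCoh.push g).obj I) := Injective.injective_of_adjoint (EtCoh.pullPushAdj g) I
    haveI : Epi ((EtCoh.push g).map Sq.g) := by
      show Epi ((EtCoh.push g).map (i.n • 𝟙 I))
      rw [Functor.map_nsmul, CategoryTheory.Functor.map_id]
      exact epi_nsmul _ i.mem.1
    exact EtBCQ.isZero_rightDerived_kernel (EtCoh.push g) hS a

end Groth.Agent.EtLeray
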