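import Groth.Agent.EtLeray.Bounded
import Groth.Agent.EtLeray.LTors
import Groth.Agent.S14389
import Groth.Agent.S14451
import Groth.Agent.S8536

/-!
# The comparison condition descends along base change
-/

set_option autoImplicit false
set_option linter.style.haveILetI false
set_option maxHeartbeats 1000000

universe u

open CategoryTheory CategoryTheory.Limits AlgebraicGeometry Opposite CategoryTheory.Abelian

namespace Groth.Agent.EtLeray

set_option backward.isDefEq.respectTransparency false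
set_option backward.isDefEq.respectTransparency.types false

theorem Hpull_map {X Y : Scheme.{u}} (h : Y ⟶ X) [PreservesFiniteLimits (EtCoh.pull h)] {A B : EtCoh.Ab X} (v : A ⟶ B)
    (q : ℕ) (e : EtCoh.H X A q) :
    EtCore.Hpull h B q (Ext.comp e (Ext.mk₀ v) (add_zero q)) =
      Ext.comp (EtCore.Hpull h A q e) (Ext.mk₀ ((EtCoh.pull h).map v)) (add_zero q) :=
  S8536.map_comp_mk₀ (EtCoh.pull h) (EtCore.pullConst h ℤ).inv e v

theorem Hpull_extClass {X Y : Scheme.{u}} (h : Y ⟶ X) [PreservesFiniteLimits (EtCoh.pull h)]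
    {S : ShortComplex (EtCoh.Ab X)} (hS : S.ShortExact) (q : ℕ) (e : EtCoh.H X S.X₃ q) :
    EtCore.Hpull h S.X₁ (q + 1) (Ext.comp e hS.extClass rfl) =
      Ext.comp (EtCore.Hpull h S.X₃ q e) (hS.map_of_exact (EtCoh.pull h)).extClass rfl :=
  S8536.map_comp_extClass (EtCoh.pull h) (EtCore.pullConst h ℤ).inv hS e

/-- bijectivity up to degree `n`, injectivity in degree `n + 1`, from acyclic hulls -/
theorem compN_of_hulls {X Y : Scheme.{u}} (h : Y ⟶ X) [PreservesFiniteLimits (EtCoh.pull h)] (L : Set ℕ) (n : ℕ)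
    (h0 : ∀ F : EtCoh.Ab X, EtAcyc.IsLTorsion L F → Function.Bijective (EtCore.Hpull h F 0))
    (hull : ∀ F : EtCoh.Ab X, EtAcyc.IsLTorsion L F → ∃ (G : EtCoh.Ab X) (j : F ⟶ G), Mono j ∧
      EtAcyc.IsLTorsion L G ∧ (∀ q : ℕ, Subsingleton (EtCoh.H X G (q + 1))) ∧
        ∀ q : ℕ, q ≤ n → Function.Bijective (EtCore.Hpull h G q)) :
    ∀ F : EtCoh.Ab X, EtAcyc.IsLTorsion L F →
      (∀ q : ℕ, q ≤ n → Function.Bijective (EtCore.Hpull h F q)) ∧ Function.Injective (EtCore.Hpull h F (n + 1)) := by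
  have step : ∀ q : ℕ, q ≤ n →
      (∀ F : EtCoh.Ab X, EtAcyc.IsLTorsion L F → Function.Bijective (EtCore.Hpull h F q)) →
      ∀ F : EtCoh.Ab X, EtAcyc.IsLTorsion L F → Function.Injective (EtCore.Hpull h F (q + 1)) ∧
        (q + 1 ≤ n → Function.Surjective (EtCore.Hpull h F (q + 1))) := by
    intro q hq ih F hF
    obtain ⟨G, j, _, hG, hsub, hbij⟩ := hull F hF
    let S := ShortComplex.mk j (cokernel.π j) (cokernel.condition j)
    have hS : S.ShortExact := { exact := ShortComplex.exact_of_g_is_cokernel _ (cokernelIsCokernel j) }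
    have hS' := hS.map_of_exact (EtCoh.pull h)
    have hQ : EtAcyc.IsLTorsion L S.X₃ := isLTorsion_of_epi (cokernel.π j) hG
    refine ⟨(injective_iff_map_eq_zero _).2 fun x hx => ?_, fun hq' z => ?_⟩
    · haveI := hsub q
      obtain ⟨y, rfl⟩ : ∃ y : EtCoh.H X S.X₃ q, Ext.comp y hS.extClass rfl = x :=
        Ext.covariant_sequence_exact₁ _ hS x (Subsingleton.elim (α := EtCoh.H X G (q + 1)) _ _) rfl
      obtain ⟨v, hv⟩ : ∃ v : EtCoh.H Y ((EtCoh.pull h).obj G) q,
          Ext.comp v (Ext.mk₀ ((EtCoh.pull h).map (cokernel.π j))) (add_zero q) = EtCore.Hpull h S.X₃ q y :=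
        Ext.covariant_sequence_exact₃ _ hS' _ rfl ((Hpull_extClass h hS q y).symm.trans hx)
      obtain ⟨v₀, rfl⟩ := (hbij q hq).2 v
      have hy : y = Ext.comp v₀ (Ext.mk₀ S.g) (add_zero q) :=
        (ih S.X₃ hQ).1 (hv.symm.trans (Hpull_map h S.g q v₀).symm)
      rw [hy, Ext.comp_assoc_of_second_deg_zero, hS.comp_extClass, Ext.comp_zero]
    · haveI := hsub q
      have hz : Ext.comp z (Ext.mk₀ ((EtCoh.pull h).map j)) (add_zero (q + 1)) = 0 := by
        obtain ⟨γ, hγ⟩ := (hbij (q + 1) hq').2 (Ext.comp z (Ext.mk₀ ((EtCoh.pull h).map j)) (add_zero (q + 1)))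
        rw [← hγ, Subsingleton.elim γ 0, map_zero]
      obtain ⟨w, rfl⟩ : ∃ w : EtCoh.H Y ((EtCoh.pull h).obj S.X₃) q, Ext.comp w hS'.extClass rfl = z :=
        Ext.covariant_sequence_exact₁ _ hS' z hz rfl
      obtain ⟨w₀, rfl⟩ := (ih S.X₃ hQ).2 w
      exact ⟨Ext.comp w₀ hS.extClass rfl, Hpull_extClass h hS q w₀⟩
  have hb : ∀ q : ℕ, q ≤ n → ∀ F : EtCoh.Ab X, EtAcyc.IsLTorsion L F → Function.Bijective (EtCore.Hpull h F q) := by
    intro q
    induction q with
    | zero => exact fun _ => h0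
    | succ q ih => exact fun hq F hF =>
        ⟨(step q (by omega) (ih (by omega)) F hF).1, (step q (by omega) (ih (by omega)) F hF).2 hq⟩
  exact fun F hF => ⟨fun q hq => hb q hq F hF, (step n le_rfl (hb n le_rfl) F hF).1⟩

variable {X Y Xb Yb : Scheme.{u}} (h : Y ⟶ X) (p : Xb ⟶ X) (hb : Yb ⟶ Xb) (pY : Yb ⟶ Y)

theorem isIso_baseChange0_of_bcQ (w : hb ≫ p = pY ≫ h) [PreservesFiniteLimits (EtCoh.pull hb)] (F : EtCoh.Ab Xb)
    (h0 : IsIso (EtBC.bcQ p h pY hb w 0 F)) : IsIso (EtCoh.baseChange0 p h pY hb w F) := by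
  haveI := h0
  haveI := EtFound.pull_preservesFiniteLimits h
  haveI : IsIso (EtCoh.baseChange0 p h pY hb w F ≫
      (EtCoh.push pY).toRightDerivedZero.app ((EtCoh.pull hb).obj F)) := by
    rw [← EtBC.bcQ_zero_compat]; infer_instance
  exact IsIso.of_isIso_comp_right _ ((EtCoh.push pY).toRightDerivedZero.app ((EtCoh.pull hb).obj F))

/-- Pullback in degree `q` for a sheaf acyclic for `p`. -/
theorem bijective_Hpull_of_bc (sq : IsPullback hb pY p h) [PreservesFiniteLimits (EtCoh.pull hb)]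
    (G : EtCoh.Ab Xb) (q : ℕ) (hq : ∀ [PreservesFiniteLimits (EtCoh.pull h)],
      Function.Bijective (EtCore.Hpull h ((EtCoh.push p).obj G) q))
    (hbc : ∀ i, i ≤ q → IsIso (EtBC.bcQ p h pY hb sq.w i G))
    (hac : ∀ b, b < q → IsZero ((EtCoh.Rpush p (b + 1)).obj G)) :
    Function.Bijective (EtCore.Hpull hb G q) := by
  haveI := EtFound.pull_preservesFiniteLimits h
  haveI := EtFound.pull_preservesFiniteLimits p
  haveI := EtFound.pull_preservesFiniteLimits pY
  haveI := isIso_baseChange0_of_bcQ h p hb pY sq.w G (hbc 0 q.zero_le)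
  have hP : Function.Bijective (EtLim.HofPush p G q) := (hofPush_bdd p G q).1 hac
  have hPY : Function.Bijective (EtLim.HofPush pY ((EtCoh.pull hb).obj G) q) := (hofPush_bdd pY _ q).1 fun b hb' => by
    haveI := hbc (b + 1) hb'
    exact ((EtCoh.pull h).map_isZero (hac b hb')).of_iso (asIso (EtBC.bcQ p h pY hb sq.w (b + 1) G)).symm
  have hm : Function.Bijective ((EtCoh.HF Y q).map (EtCoh.baseChange0 p h pY hb sq.w G)) :=
    ConcreteCategory.bijective_of_isIso _
  refine (Function.Bijective.of_comp_iff (EtCore.Hpull hb G q) hP).1 ?_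
  rw [show EtCore.Hpull hb G q ∘ EtLim.HofPush p G q = (EtLim.HofPush pY ((EtCoh.pull hb).obj G) q ∘
      (EtCoh.HF Y q).map (EtCoh.baseChange0 p h pY hb sq.w G)) ∘ EtCore.Hpull h ((EtCoh.push p).obj G) q from
    funext fun ζ => S14389.result p h pY hb sq.w G q ζ]
  exact (hPY.comp hm).comp hq

/-- The comparison condition for the base change. -/
theorem compN_pullback (sq : IsPullback hb pY p h) [CompactSpace Xb] [QuasiSeparatedSpace Xb] [QuasiSeparatedSpace X]
    [PreservesFiniteLimits (EtCoh.pull hb)]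
    (L : Set ℕ) (n : ℕ) (hh : EtAcyc.CompN h L n)
    (hbc : ∀ Fb : EtCoh.Ab Xb, EtAcyc.IsLTorsion L Fb → ∀ i : ℕ, i ≤ n → IsIso (EtBC.bcQ p h pY hb sq.w i Fb)) :
    EtAcyc.CompN hb L n := by
  intro F hF _
  haveI : QuasiCompact p := quasiCompact_of_compactSpace p
  haveI : QuasiSeparated p := inferInstance
  haveI := EtFound.pull_preservesFiniteLimits h
  refine compN_of_hulls hb L n (fun F hF => ?_) (fun F hF => ?_) F hF
  · exact bijective_Hpull_of_bc h p hb pY sq F 0 (fun {_} => ((hh _ (isLTorsion_push p hF)).1 0 n.zero_le))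
      (fun i hi => hbc F hF i (hi.trans n.zero_le)) fun b hb' => absurd hb' b.not_lt_zero
  · obtain ⟨G, j, hj, hG, hsub, hac⟩ := exists_hull_LTors F hF
    exact ⟨G, j, hj, hG, hsub, fun q hq => bijective_Hpull_of_bc h p hb pY sq G q
      (fun {_} => ((hh _ (isLTorsion_push p hG)).1 q hq)) (fun i hi => hbc G hG i (hi.trans hq)) fun b _ => hac p b⟩

end Groth.Agent.EtLeray
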