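import Groth.Agent.BigSiteLib.HofPushEt
import Groth.Agent.SiteBase.Horseshoe
import Groth.Agent.EtFound.PullStalk

/-!
# The canonical map `H^p(Y, f_* F) ⟶ H^p(X, F)` when few higher direct images vanish
-/

set_option autoImplicit false
set_option linter.style.haveILetI false

universe w v v' u u'

open CategoryTheory CategoryTheory.Limits CategoryTheory.Abelian

namespace Groth.Agent.EtLeray

open BigSiteLib

variable {A : Type u} [Category.{v} A] [Abelian A] [EnoughInjectives A] [HasExt.{w} A]
  {B : Type u'} [Category.{v'} B] [Abelian B] [HasExt.{w} B]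
  {L : B ⥤ A} {R : A ⥤ B} [L.Additive] [R.Additive] [PreservesFiniteLimits L] [PreservesFiniteColimits L]
  (adj : L ⊣ R) {ZA : A} {ZB : B} (i : ZA ⟶ L.obj ZB)

omit [HasExt.{w} A] [HasExt.{w} B] in
/-- higher derived functors of a quotient by an injective -/
theorem isZero_succ_X₃ [PreservesFiniteLimits R] {S : ShortComplex A} (hS : S.ShortExact) [Injective S.X₂] {b : ℕ}
    (h : IsZero ((R.rightDerived (b + 2)).obj S.X₁)) : IsZero ((R.rightDerived (b + 1)).obj S.X₃) :=
  ((SESResLib.derivedLES R).exact₃ S hS (b + 1) (b + 2) rfl).isZero_of_both_zeros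
    ((R.isZero_rightDerived_obj_injective_succ b S.X₂).eq_of_src _ _) (h.eq_of_tgt _ _)

omit [EnoughInjectives A] [R.Additive] in
theorem hof_comp' {X Y : A} {Z : B} (c : Z ⟶ R.obj X) (p : ℕ) (y : Ext.{w} ZB Z p) (e' : Ext.{w} Z (R.obj Y) 1)
    (e : Ext.{w} X Y 1) (hn : (e'.mapExactFunctor L).comp (Ext.mk₀ (adj.counit.app Y)) (add_zero 1) =
      (Ext.mk₀ (L.map c ≫ adj.counit.app X)).comp e (zero_add 1)) :
    HofBij.hof adj i Y (p + 1) (y.comp e' rfl) =
      (HofBij.hof adj i X p (y.comp (Ext.mk₀ c) (add_zero p))).comp e rfl := by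
  simp only [HofBij.hof, Ext.mapExactFunctor_comp, Ext.mapExactFunctor_mk₀, Ext.comp_assoc_of_third_deg_zero,
    Ext.comp_assoc_of_second_deg_zero, hn, Ext.mk₀_comp_mk₀]
  rw [← Ext.comp_assoc_of_second_deg_zero (y.mapExactFunctor L)]
  exact (Ext.comp_assoc _ _ _ (zero_add p) rfl (by omega)).symm

theorem hof_bdd (hi : IsIso i) [PreservesFiniteLimits R] :
    ∀ (p : ℕ) (F : A),
      ((∀ b, b < p → IsZero ((R.rightDerived (b + 1)).obj F)) → Function.Bijective (HofBij.hof adj i F p)) ∧
        ((∀ b, b + 1 < p → IsZero ((R.rightDerived (b + 1)).obj F)) → ∀ x, HofBij.hof adj i F p x = 0 → x = 0) := by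
  intro p
  induction p with
  | zero =>
    refine fun F => ⟨fun _ => HofBij.hof_bijective_zero adj i hi F, fun _ x hx => ?_⟩
    exact (HofBij.hof_bijective_zero adj i hi F).1 (hx.trans (by simp [HofBij.hof]))
  | succ p ih =>
    intro F
    let Q := Classical.arbitrary (InjectivePresentation F)
    have hS := Q.shortExact_shortComplex
    let S := Q.shortComplex
    haveI : Injective S.X₂ := Q.injective
    haveI : Injective (R.obj S.X₂) := Injective.injective_of_adjoint adj _
    have hvI : ∀ b, b < p → IsZero ((R.rightDerived (b + 1)).obj S.X₂) := fun b _ =>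
      R.isZero_rightDerived_obj_injective_succ b S.X₂
    have hinj : (∀ b, b < p → IsZero ((R.rightDerived (b + 1)).obj F)) →
        ∀ x, HofBij.hof adj i F (p + 1) x = 0 → x = 0 := by
      intro hF x hx
      rcases Nat.eq_zero_or_pos p with rfl | hp
      · let T : ShortComplex B := S.map R
        haveI : Mono T.f := inferInstanceAs (Mono (R.map S.f))
        let T' : ShortComplex B := ShortComplex.mk T.f (cokernel.π T.f) (cokernel.condition _)
        have hS' : T'.ShortExact := { exact := ShortComplex.exact_of_g_is_cokernel _ (cokernelIsCokernel _) }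
        obtain ⟨y, hy⟩ : ∃ y : Ext.{w} ZB T'.X₃ 0, y.comp hS'.extClass rfl = x :=
          haveI : Injective T'.X₂ := ‹Injective (R.obj S.X₂)›
          Ext.covariant_sequence_exact₁ ZB hS' x (Ext.eq_zero_of_injective _) rfl
        obtain ⟨ψ, rfl⟩ := (Ext.mk₀_bijective _ _).2 y
        subst hy
        let c : cokernel T.f ⟶ R.obj S.X₃ := cokernel.desc T.f T.g T.zero
        have hT : T.Exact := ShortComplex.exact_of_f_is_kernel _ (KernelFork.mapIsLimit _ hS.exact.fIsKernel R)
        haveI : Mono c := hT.mono_cokernelDesc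
        have hn : (hS'.extClass.mapExactFunctor L).comp (Ext.mk₀ (adj.counit.app S.X₁)) (add_zero 1) =
            (Ext.mk₀ (L.map c ≫ adj.counit.app S.X₃)).comp hS.extClass (zero_add 1) :=
          (congrArg (fun t => Ext.comp t (Ext.mk₀ (adj.counit.app S.X₁)) (add_zero 1))
            (Ext.mapExactFunctor_extClass L hS')).trans
            (ShortComplex.ShortExact.extClass_naturality (hS'.map_of_exact L) hS
              ({ τ₁ := adj.counit.app S.X₁, τ₂ := adj.counit.app S.X₂, τ₃ := L.map c ≫ adj.counit.app S.X₃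
                 comm₁₂ := (adj.counit.naturality S.f).symm
                 comm₂₃ := by
                  refine ((adj.counit.naturality S.g).symm).trans ?_
                  refine (eq_whisker ?_ _).trans (Category.assoc _ _ _)
                  exact (congrArg L.map (cokernel.π_desc T.f T.g T.zero).symm).trans (L.map_comp _ _) } :
                T'.map L ⟶ S))
        have hx' : (HofBij.hof adj i S.X₃ 0 ((Ext.mk₀ ψ).comp (Ext.mk₀ c) (add_zero 0))).comp hS.extClass rfl = 0 := by
          exact (hof_comp' adj i (X := S.X₃) (Y := S.X₁) (Z := T'.X₃) c 0 (Ext.mk₀ ψ) hS'.extClass hS.extClass hn).symm.trans hx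
        obtain ⟨z, hz⟩ := Ext.covariant_sequence_exact₃ ZA hS _ (n₁ := 1) rfl hx'
        obtain ⟨z', hz'⟩ := ((ih S.X₂).1 hvI).2 z
        obtain ⟨φ, rfl⟩ := (Ext.mk₀_bijective _ _).2 z'
        have he : (Ext.mk₀ ψ).comp (Ext.mk₀ c) (add_zero 0) =
            (Ext.mk₀ φ).comp (Ext.mk₀ (R.map S.g)) (add_zero 0) :=
          (HofBij.hof_bijective_zero adj i hi S.X₃).1 ((hz.symm.trans
            (congrArg (fun t => Ext.comp t (Ext.mk₀ S.g) (add_zero 0)) hz'.symm)).trans
              (HofBij.hof_natural adj i S.g 0 _).symm)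
        rw [Ext.mk₀_comp_mk₀, Ext.mk₀_comp_mk₀] at he
        have e : ψ = φ ≫ cokernel.π T.f := by
          refine (cancel_mono c).1 (((Ext.mk₀_bijective _ _).1 he).trans ?_)
          exact (whisker_eq φ (cokernel.π_desc T.f T.g T.zero).symm).trans (Category.assoc _ _ _).symm
        subst e
        have h0 : (Ext.mk₀ T'.g).comp hS'.extClass (zero_add 1) = 0 := hS'.comp_extClass
        show (Ext.mk₀ (φ ≫ T'.g)).comp hS'.extClass (zero_add 1) = 0
        erw [← Ext.mk₀_comp_mk₀, Ext.comp_assoc_of_second_deg_zero, h0, Ext.comp_zero]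
      · obtain ⟨k, rfl⟩ : ∃ k, p = k + 1 := ⟨p - 1, by omega⟩
        have hS' : (S.map R).ShortExact := TriCat.shortExact_map_of_subsingleton hS (hF 0 hp)
        let e' : Ext.{w} (R.obj S.X₃) (R.obj S.X₁) 1 := hS'.extClass
        have hn : (e'.mapExactFunctor L).comp (Ext.mk₀ (adj.counit.app S.X₁)) (add_zero 1) =
            (Ext.mk₀ (adj.counit.app S.X₃)).comp hS.extClass (zero_add 1) :=
          (congrArg (fun t => Ext.comp t (Ext.mk₀ (adj.counit.app S.X₁)) (add_zero 1))
            (Ext.mapExactFunctor_extClass L hS')).trans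
            (ShortComplex.ShortExact.extClass_naturality (hS'.map_of_exact L) hS
              ({ τ₁ := adj.counit.app S.X₁, τ₂ := adj.counit.app S.X₂, τ₃ := adj.counit.app S.X₃
                 comm₁₂ := (adj.counit.naturality S.f).symm, comm₂₃ := (adj.counit.naturality S.g).symm } :
                (S.map R).map L ⟶ S))
        obtain ⟨y, hy⟩ : ∃ y : Ext.{w} ZB (R.obj S.X₃) (k + 1), y.comp e' rfl = x :=
          haveI : Injective (S.map R).X₂ := ‹Injective (R.obj S.X₂)›
          Ext.covariant_sequence_exact₁ ZB hS' x (Ext.eq_zero_of_injective _) rfl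
        subst hy
        have hx' : (HofBij.hof adj i S.X₃ (k + 1) y).comp hS.extClass rfl = 0 :=
          (HofBij.hof_comp adj i (k + 1) y e' hS.extClass hn).symm.trans hx
        obtain ⟨z, hz⟩ := Ext.covariant_sequence_exact₃ ZA hS (HofBij.hof adj i S.X₃ (k + 1) y) (n₁ := k + 1 + 1) rfl hx'
        obtain ⟨z', hz'⟩ := ((ih S.X₂).1 hvI).2 z
        have h3 : ∀ b, b + 1 < k + 1 → IsZero ((R.rightDerived (b + 1)).obj S.X₃) := fun b hb =>
          isZero_succ_X₃ hS (hF (b + 1) hb)
        have e3 : HofBij.hof adj i S.X₃ (k + 1) (y - z'.comp (Ext.mk₀ (R.map S.g)) (add_zero (k + 1))) = 0 := by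
          have h := HofBij.hof_add adj i S.X₃ (k + 1) (y - z'.comp (Ext.mk₀ (R.map S.g)) (add_zero (k + 1)))
            (z'.comp (Ext.mk₀ (R.map S.g)) (add_zero (k + 1)))
          rw [sub_add_cancel, HofBij.hof_natural adj i S.g (k + 1) z', hz', hz] at h
          simpa using h.symm
        have hy' : y = z'.comp (Ext.mk₀ (R.map S.g)) (add_zero (k + 1)) :=
          sub_eq_zero.1 ((ih S.X₃).2 h3 _ e3)
        have h0 : (Ext.mk₀ (R.map S.g)).comp e' (zero_add 1) = 0 := hS'.comp_extClass
        rw [hy', Ext.comp_assoc_of_second_deg_zero, h0, Ext.comp_zero]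
    refine ⟨fun hF => ⟨fun x y hxy => ?_, fun z => ?_⟩, fun hF => hinj fun b hb => hF b (by omega)⟩
    · have h := HofBij.hof_add adj i F (p + 1) (x - y) y
      rw [sub_add_cancel, hxy] at h
      exact sub_eq_zero.1 (hinj (fun b hb => hF b (by omega)) _ (by simpa using h.symm))
    · have hS' : (S.map R).ShortExact := TriCat.shortExact_map_of_subsingleton hS (hF 0 p.succ_pos)
      let e' : Ext.{w} (R.obj S.X₃) (R.obj S.X₁) 1 := hS'.extClass
      have hn : (e'.mapExactFunctor L).comp (Ext.mk₀ (adj.counit.app S.X₁)) (add_zero 1) =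
          (Ext.mk₀ (adj.counit.app S.X₃)).comp hS.extClass (zero_add 1) :=
        (congrArg (fun t => Ext.comp t (Ext.mk₀ (adj.counit.app S.X₁)) (add_zero 1))
          (Ext.mapExactFunctor_extClass L hS')).trans
          (ShortComplex.ShortExact.extClass_naturality (hS'.map_of_exact L) hS
            ({ τ₁ := adj.counit.app S.X₁, τ₂ := adj.counit.app S.X₂, τ₃ := adj.counit.app S.X₃
               comm₁₂ := (adj.counit.naturality S.f).symm, comm₂₃ := (adj.counit.naturality S.g).symm } :
              (S.map R).map L ⟶ S))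
      obtain ⟨y, hy⟩ : ∃ y : Ext.{w} ZA S.X₃ p, y.comp hS.extClass rfl = z :=
        Ext.covariant_sequence_exact₁ ZA hS z (Ext.eq_zero_of_injective _) rfl
      obtain ⟨y', hy'⟩ := ((ih S.X₃).1 fun b hb => isZero_succ_X₃ hS (hF (b + 1) (by omega))).2 y
      exact ⟨y'.comp e' rfl, (HofBij.hof_comp adj i p y' e' hS.extClass hn).trans
        ((congrArg (fun t => Ext.comp t hS.extClass rfl) hy').trans hy)⟩

end Groth.Agent.EtLeray

namespace Groth.Agent.EtLeray

open AlgebraicGeometry

universe u₀

set_option backward.isDefEq.respectTransparency.types false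

variable {X Y : Scheme.{u₀}} (f : X ⟶ Y) [PreservesFiniteLimits (EtCoh.pull f)] (F : EtCoh.Ab X)

theorem hofPush_bdd (p : ℕ) :
    ((∀ b, b < p → IsZero ((EtCoh.Rpush f (b + 1)).obj F)) → Function.Bijective (EtLim.HofPush f F p)) ∧
      ((∀ b, b + 1 < p → IsZero ((EtCoh.Rpush f (b + 1)).obj F)) → Function.Injective (EtLim.HofPush f F p)) := by
  haveI : (EtCoh.pull f).IsLeftAdjoint := (EtCoh.pullPushAdj f).isLeftAdjoint
  haveI : (EtCoh.push f).IsRightAdjoint := (EtCoh.pullPushAdj f).isRightAdjoint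
  haveI : (EtCoh.pull f).Additive := (EtCoh.pullPushAdj f).left_adjoint_additive
  obtain ⟨h₁, h₂⟩ := hof_bdd (EtCoh.pullPushAdj f) (EtCore.pullConst f ℤ).inv inferInstance p F
  exact ⟨fun h => h₁ h, fun h => (injective_iff_map_eq_zero _).2 fun x hx => h₂ h x hx⟩

end Groth.Agent.EtLeray
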